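import Cfsg.Agent.H876.G2U.Ext

/-!
# Descent for automorphisms of the octonions (helper876)
-/

set_option autoImplicit false

namespace Cfsg.Agent.H876.G2U

open Cfsg.Lie Cfsg.Agent.H161.Oct
open scoped Matrix

/-- coordinatewise application of a ring homomorphism -/
def up {F L : Type} [Field F] [Field L] (φ : F →+* L) (x : V F) : V L := fun i => φ (x i)

section Up

variable {F L : Type} [Field F] [Field L] (φ : F →+* L)

theorem up_apply (x : V F) (i : Fin 8) : up φ x i = φ (x i) := rfl

theorem up_mul (x y : V F) : up φ (zornMul x y) = zornMul (up φ x) (up φ y) := zornMul_map φ x y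

theorem up_add (x y : V F) : up φ (x + y) = up φ x + up φ y := by
  funext i; simp [up_apply]

theorem up_smul (c : F) (x : V F) : up φ (c • x) = φ c • up φ x := by
  funext i; simp [up_apply]

theorem up_inj : Function.Injective (up φ) := by
  intro x y h
  funext i
  exact φ.injective (congrFun h i)

theorem up_o : up φ o = o := by
  apply ext8 <;> simp [up_apply, o]

theorem up_e1 : up φ e1 = e1 := by
  apply ext8 <;> simp [up_apply, e1]

theorem up_tr (x : V F) : tr (up φ x) = φ (tr x) := by simp [tr, up_apply]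

theorem up_nm (x : V F) : nm (up φ x) = φ (nm x) := by simp [nm, up_apply]

theorem up_single (i : Fin 8) : up φ (Pi.single i 1) = Pi.single i 1 := by
  funext k
  rw [up_apply, Pi.single_apply, Pi.single_apply]
  split_ifs <;> simp

theorem up_swpF (x : V F) : up φ (swpF x) = swpF (up φ x) := by
  apply ext8 <;> simp [up_apply, swpF]

theorem up_slF (P : Matrix (Fin 3) (Fin 3) F) (x : V F) :
    up φ (slF P x) = slF (P.map φ) (up φ x) := by
  apply ext8 <;> simp [up_apply, slF]

theorem ext_up {g h : V L ≃ₗ[L] V L} (H : ∀ x : V F, g (up φ x) = h (up φ x)) : g = h := by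
  apply LinearEquiv.toLinearMap_injective
  apply (Pi.basisFun L (Fin 8)).ext
  intro i
  rw [Pi.basisFun_apply]
  have := H (Pi.single i 1)
  rw [up_single] at this
  exact this

/-- extension of scalars of a linear equivalence -/
noncomputable def E : AutO F →* (V L ≃ₗ[L] V L) :=
  ((emb φ).comp (toE F).symm.toMonoidHom).comp (AutO F).subtype

theorem E_up (g : AutO F) (x : V F) : E φ g (up φ x) = up φ ((g : V F ≃ₗ[F] V F) x) := by
  have h1 : (toE F) ((toE F).symm (g : V F ≃ₗ[F] V F)) = g := MulEquiv.apply_symm_apply _ _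
  have h2 : ((g : V F ≃ₗ[F] V F) x) = ((toE F).symm (g : V F ≃ₗ[F] V F) : Matrix (Fin 8) (Fin 8) F) *ᵥ x := by
    conv_lhs => rw [← h1]
    rfl
  rw [h2]
  exact mulVec_map φ _ x

theorem E_mem (g : AutO F) : E φ g ∈ AutO L := by
  apply emb_mem
  rw [← toE_mem]
  have h1 : toE F ((toE F).symm.toMonoidHom ((AutO F).subtype g)) = g :=
    MulEquiv.apply_symm_apply _ _
  rw [h1]
  exact g.2

theorem E_inj : Function.Injective (E φ : AutO F →* (V L ≃ₗ[L] V L)) := by
  intro g h hgh
  apply Subtype.ext
  apply (toE F).symm.injective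
  exact emb_inj φ hgh

end Up

section Cj

variable {L : Type} [Field L] {s : L →+* L} (ss : ∀ x, s (s x) = x)

include ss in
theorem up_up (x : V L) : up s (up s x) = x := by
  funext i
  exact ss _

/-- the conjugate -/
def cj (g : V L ≃ₗ[L] V L) : V L ≃ₗ[L] V L where
  toFun x := up s (g (up s x))
  map_add' x y := by rw [up_add, map_add, up_add]
  map_smul' c x := by rw [up_smul, map_smul, up_smul, ss, RingHom.id_apply]
  invFun x := up s (g.symm (up s x))
  left_inv x := by
    change up s (g.symm (up s (up s (g (up s x))))) = x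
    rw [up_up ss, LinearEquiv.symm_apply_apply, up_up ss]
  right_inv x := by
    change up s (g (up s (up s (g.symm (up s x))))) = x
    rw [up_up ss, LinearEquiv.apply_symm_apply, up_up ss]

theorem cj_apply (g : V L ≃ₗ[L] V L) (x : V L) : cj ss g x = up s (g (up s x)) := rfl

theorem cj_mul (g h : V L ≃ₗ[L] V L) : cj ss (g * h) = cj ss g * cj ss h := by
  apply LinearEquiv.ext
  intro x
  rw [LinearEquiv.mul_apply, cj_apply, cj_apply, cj_apply, up_up ss, LinearEquiv.mul_apply]

theorem cj_one : cj ss (1 : V L ≃ₗ[L] V L) = 1 := by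
  apply LinearEquiv.ext
  intro x
  rw [cj_apply]
  exact up_up ss x

theorem cj_inv (g : V L ≃ₗ[L] V L) : cj ss g⁻¹ = (cj ss g)⁻¹ := by
  rw [eq_inv_iff_mul_eq_one, ← cj_mul, inv_mul_cancel, cj_one]

theorem cj_cj (g : V L ≃ₗ[L] V L) : cj ss (cj ss g) = g := by
  apply LinearEquiv.ext
  intro x
  rw [cj_apply, cj_apply, up_up ss, up_up ss]

theorem cj_mem {g : V L ≃ₗ[L] V L} (hg : g ∈ AutO L) : cj ss g ∈ AutO L := by
  intro x y
  rw [cj_apply, cj_apply, cj_apply, up_mul, mem_AutO.1 hg, up_mul]

theorem cj_swp : cj ss (swp L) = swp L := by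
  apply LinearEquiv.ext
  intro x
  rw [cj_apply, swp_apply, swp_apply, up_swpF, up_up ss]

theorem cj_slM (P : Matrix.SpecialLinearGroup (Fin 3) L) :
    cj ss (slM L P) = slM L (Matrix.SpecialLinearGroup.map s P) := by
  apply LinearEquiv.ext
  intro x
  rw [cj_apply, slM_apply, slM_apply, up_slF, up_up ss]
  rfl

variable {F : Type} [Field F] {φ : F →+* L} (s_φ : ∀ a, s (φ a) = φ a)

include s_φ in
theorem up_up' (x : V F) : up s (up φ x) = up φ x := by
  funext i
  exact s_φ _

include s_φ in
theorem cj_E (g : AutO F) : cj ss (E φ g) = E φ g := by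
  apply ext_up φ
  intro x
  rw [cj_apply, up_up' s_φ, E_up, up_up' s_φ]

theorem exists_E (fix : ∀ x, s x = x → ∃ a, φ a = x) {g : V L ≃ₗ[L] V L} (hg : g ∈ AutO L)
    (hc : cj ss g = g) : ∃ g0 : AutO F, E φ g0 = g := by
  have h1 : ∀ i j, ∃ a, φ a = g (Pi.single j 1) i := by
    intro i j
    apply fix
    have h2 := congrFun (congrArg (fun z : V L ≃ₗ[L] V L => z (Pi.single j 1)) hc) i
    change cj ss g (Pi.single j 1) i = g (Pi.single j 1) i at h2
    rw [cj_apply, up_single] at h2
    exact h2
  choose N hN using h1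
  set M : GL (Fin 8) L := (toE L).symm g with hM
  have hMg : toE L M = g := MulEquiv.apply_symm_apply _ _
  have hMM : (M : Matrix (Fin 8) (Fin 8) L) = (Matrix.of N).map φ := by
    ext i j
    rw [Matrix.map_apply, Matrix.of_apply, hN, ← hMg, toE_apply, Matrix.mulVec_single_one]
    rfl
  have hdet : (Matrix.of N).det ≠ 0 := by
    intro h
    have h2 : (M : Matrix (Fin 8) (Fin 8) L).det = 0 := by
      rw [hMM]
      have := RingHom.map_det φ (Matrix.of N)
      rw [h, map_zero] at this
      exact this.symm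
    exact (Matrix.isUnit_iff_isUnit_det _).1 M.isUnit |>.ne_zero h2
  set g1 : GL (Fin 8) F := Matrix.GeneralLinearGroup.mkOfDetNeZero (Matrix.of N) hdet with hg1
  have hg1c : (g1 : Matrix (Fin 8) (Fin 8) F) = Matrix.of N := rfl
  have hmap : ∀ x : V F, g (up φ x) = up φ (toE F g1 x) := by
    intro x
    rw [← hMg, toE_apply, toE_apply, hMM, hg1c]
    exact mulVec_map φ _ x
  have hmem : toE F g1 ∈ AutO F := by
    intro x y
    apply up_inj φ
    rw [← hmap, up_mul, mem_AutO.1 hg, hmap, hmap, up_mul]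
  refine ⟨⟨toE F g1, hmem⟩, ?_⟩
  apply ext_up φ
  intro x
  rw [E_up, hmap]

end Cj

end Cfsg.Agent.H876.G2U
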