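import Cfsg.Agent.H876.G2U.Conj

/-!
# The unitary frame (helper876)
-/

set_option autoImplicit false

namespace Cfsg.Agent.H876.G2U

open Cfsg.Lie Cfsg.Agent.H161.Oct Cfsg.Agent.H566.G2
open scoped Matrix

section Swp

variable {L : Type} [Field L]

theorem swp_swp : swp L * swp L = 1 := by
  apply LinearEquiv.ext
  intro x
  rw [LinearEquiv.mul_apply, swp_apply, swp_apply]
  apply ext8 <;> simp [swpF]

theorem swp_e1 : swp L e1 = o - e1 := by
  rw [swp_apply]
  apply ext8 <;> simp [swpF, o, e1]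

theorem adj_coe (C : Matrix.SpecialLinearGroup (Fin 3) L) :
    ((C⁻¹).transpose : Matrix.SpecialLinearGroup (Fin 3) L).1 = (C.1.adjugate)ᵀ := rfl

theorem swp_slM (C : Matrix.SpecialLinearGroup (Fin 3) L) :
    swp L * slM L C = slM L (C⁻¹).transpose * swp L := by
  apply LinearEquiv.ext
  intro x
  have hd := C.2
  rw [det3] at hd
  rw [LinearEquiv.mul_apply, LinearEquiv.mul_apply, swp_apply, swp_apply, slM_apply, slM_apply,
    adj_coe, Matrix.adjugate_fin_three]
  apply ext8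
  · simp only [swpF0, slF0, slF7]
  · simp only [swpF1, slF1, slF4, swpF2, swpF3, Matrix.transpose_apply, Matrix.of_apply,
      Matrix.cons_val', Matrix.cons_val_zero, Matrix.cons_val_one, Matrix.cons_val]
    ring
  · simp only [swpF1, slF2, slF5, swpF2, swpF3, Matrix.transpose_apply, Matrix.of_apply,
      Matrix.cons_val', Matrix.cons_val_zero, Matrix.cons_val_one, Matrix.cons_val]
    ring
  · simp only [swpF1, slF3, slF6, swpF2, swpF3, Matrix.transpose_apply, Matrix.of_apply,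
      Matrix.cons_val', Matrix.cons_val_zero, Matrix.cons_val_one, Matrix.cons_val]
    ring
  · simp only [swpF4, swpF5, swpF6, slF1, slF4, Matrix.transpose_apply, Matrix.of_apply,
      Matrix.cons_val', Matrix.cons_val_zero, Matrix.cons_val_one, Matrix.cons_val]
    linear_combination (C.1 0 0 * x 1 + C.1 0 1 * x 2 + C.1 0 2 * x 3) * hd
  · simp only [swpF4, swpF5, swpF6, slF2, slF5, Matrix.transpose_apply, Matrix.of_apply,
      Matrix.cons_val', Matrix.cons_val_zero, Matrix.cons_val_one, Matrix.cons_val]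
    linear_combination (C.1 1 0 * x 1 + C.1 1 1 * x 2 + C.1 1 2 * x 3) * hd
  · simp only [swpF4, swpF5, swpF6, slF3, slF6, Matrix.transpose_apply, Matrix.of_apply,
      Matrix.cons_val', Matrix.cons_val_zero, Matrix.cons_val_one, Matrix.cons_val]
    linear_combination (C.1 2 0 * x 1 + C.1 2 1 * x 2 + C.1 2 2 * x 3) * hd
  · simp only [swpF7, slF0, slF7]

theorem slM_swp (C : Matrix.SpecialLinearGroup (Fin 3) L) :
    slM L C * swp L = swp L * slM L (C⁻¹).transpose := by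
  have h1 : slM L (C⁻¹).transpose = slM L (C⁻¹).transpose * swp L * swp L := by
    rw [mul_assoc, swp_swp, mul_one]
  rw [h1, ← swp_slM, ← mul_assoc, ← mul_assoc, swp_swp, one_mul]

theorem slM_e1 (C : Matrix.SpecialLinearGroup (Fin 3) L) : slM L C e1 = e1 := by
  rw [slM_apply]
  apply ext8 <;> simp [slF, e1]

theorem exists_slM {g : V L ≃ₗ[L] V L} (hg : g ∈ AutO L) (he : g e1 = e1) :
    ∃ P : Matrix.SpecialLinearGroup (Fin 3) L, g = slM L P := by
  obtain ⟨P, hP, h⟩ := exists_sl hg he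
  exact ⟨⟨P, hP⟩, h⟩

end Swp

section Frame

variable {F : Type} [Field F] {e : V F} (Q : Quad F (tr e) (nm e))

instance : Field Q.L := Q.fld
instance : Finite Q.L := Q.fin

/-- the idempotent -/
noncomputable def idm : V Q.L := (Q.lam - Q.s Q.lam)⁻¹ • (up Q.φ e - Q.s Q.lam • o)

theorem idm_tr : tr (idm Q) = 1 := by
  have h1 : tr (up Q.φ e - Q.s Q.lam • (o : V Q.L)) = Q.lam - Q.s Q.lam := by
    have h2 : tr (up Q.φ e - Q.s Q.lam • (o : V Q.L)) = tr (up Q.φ e) - Q.s Q.lam * tr (o : V Q.L) := by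
      simp only [tr, Pi.sub_apply, Pi.smul_apply, smul_eq_mul]; ring
    rw [h2, up_tr, tr_o, ← Q.add]; ring
  rw [idm, tr_smul, h1, inv_mul_cancel₀ Q.lam_ne]

theorem idm_nm : nm (idm Q) = 0 := by
  have h1 : nm (up Q.φ e - Q.s Q.lam • (o : V Q.L)) = 0 := by
    have h2 : nm (up Q.φ e - Q.s Q.lam • (o : V Q.L)) =
        nm (up Q.φ e) - Q.s Q.lam * tr (up Q.φ e) + Q.s Q.lam ^ 2 := by
      simp only [nm, tr, Pi.sub_apply, Pi.smul_apply, smul_eq_mul, o0, o1, o2, o3, o4, o5, o6, o7]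
      ring
    rw [h2, up_tr, up_nm, ← Q.add, ← Q.mul]; ring
  rw [idm, nm_smul, h1, mul_zero]

theorem idm_up : up Q.s (idm Q) = o - idm Q := by
  have h2 : up Q.s (up Q.φ e) = up Q.φ e := up_up' Q.s_φ e
  have h3 : up Q.s (idm Q) = (Q.s Q.lam - Q.lam)⁻¹ • (up Q.φ e - Q.lam • o) := by
    rw [idm, up_smul, map_inv₀, map_sub, Q.ss]
    congr 1
    have h4 : up Q.s (up Q.φ e - Q.s Q.lam • o) = up Q.s (up Q.φ e) - up Q.s (Q.s Q.lam • o) := by
      funext i; simp [up_apply]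
    rw [h4, h2, up_smul, Q.ss, up_o]
  rw [h3, idm]
  have h4 : (Q.s Q.lam - Q.lam)⁻¹ = -(Q.lam - Q.s Q.lam)⁻¹ := by
    rw [← neg_sub, inv_neg]
  rw [h4]
  have h5 := Q.lam_ne
  funext i
  simp only [Pi.smul_apply, Pi.sub_apply, smul_eq_mul]
  field_simp
  ring

/-- the fixed vectors -/
theorem fix_iff (g : V Q.L ≃ₗ[Q.L] V Q.L) (hg : g ∈ AutO Q.L) :
    g (idm Q) = idm Q ↔ g (up Q.φ e) = up Q.φ e := by
  have h5 := Q.lam_ne
  rw [idm, map_smul, map_sub, map_smul, map_o hg]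
  constructor
  · intro h
    have h1 := congrArg (fun z => (Q.lam - Q.s Q.lam) • z) h
    simp only [smul_smul, mul_inv_cancel₀ h5, one_smul] at h1
    exact sub_left_injective h1
  · intro h
    rw [h]

theorem exists_frame
    (PPt : ∀ B : Matrix (Fin 3) (Fin 3) Q.L, B = (B.map Q.s).transpose → B.det = 1 →
      ∃ P : Matrix (Fin 3) (Fin 3) Q.L, P.det = 1 ∧ B = P * (P.map Q.s).transpose) :
    ∃ h ∈ AutO Q.L, h (idm Q) = e1 ∧ cj Q.ss h = swp Q.L * h := by
  obtain ⟨h0, h0m, h0e⟩ := exists_idem (idm_tr Q) (idm_nm Q)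
  have hcm := cj_mem Q.ss h0m
  have hc1 : cj Q.ss h0 (o - idm Q) = e1 := by
    rw [cj_apply, ← idm_up, up_up Q.ss, h0e, up_e1]
  have hc2 : (cj Q.ss h0)⁻¹ e1 = o - idm Q := by
    rw [← hc1]
    exact LinearEquiv.symm_apply_apply _ _
  have hc3 : (cj Q.ss h0)⁻¹ (o - e1) = idm Q := by
    rw [map_sub, hc2, map_o ((AutO Q.L).inv_mem hcm)]
    abel
  obtain ⟨B, hB⟩ := exists_slM (g := h0 * (cj Q.ss h0)⁻¹ * swp Q.L)
    ((AutO Q.L).mul_mem ((AutO Q.L).mul_mem h0m ((AutO Q.L).inv_mem hcm)) swp_mem) (by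
      rw [LinearEquiv.mul_apply, LinearEquiv.mul_apply, swp_e1, hc3, h0e])
  -- `h0 = slM B * swp * cj h0`
  have e0 : h0 = slM Q.L B * swp Q.L * cj Q.ss h0 := by
    rw [← hB]
    have := swp_swp (L := Q.L)
    rw [mul_assoc (h0 * (cj Q.ss h0)⁻¹), this, mul_one, mul_assoc, inv_mul_cancel, mul_one]
  have e2 : cj Q.ss h0 = slM Q.L (Matrix.SpecialLinearGroup.map Q.s B) * swp Q.L * h0 := by
    conv_lhs => rw [e0]
    rw [cj_mul, cj_mul, cj_slM, cj_swp, cj_cj]
  have e3 : slM Q.L B * slM Q.L ((Matrix.SpecialLinearGroup.map Q.s B)⁻¹).transpose = 1 := by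
    have h1 : h0 = slM Q.L B * (swp Q.L * slM Q.L (Matrix.SpecialLinearGroup.map Q.s B)) * swp Q.L * h0 := by
      conv_lhs => rw [e0, e2]
      simp only [mul_assoc]
    rw [swp_slM] at h1
    have h2 : slM Q.L B * (slM Q.L ((Matrix.SpecialLinearGroup.map Q.s B)⁻¹).transpose * swp Q.L) *
        swp Q.L * h0 = slM Q.L B * slM Q.L ((Matrix.SpecialLinearGroup.map Q.s B)⁻¹).transpose * h0 := by
      have h3 := swp_swp (L := Q.L)
      calc _ = slM Q.L B * slM Q.L ((Matrix.SpecialLinearGroup.map Q.s B)⁻¹).transpose *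
            (swp Q.L * swp Q.L) * h0 := by simp only [mul_assoc]
        _ = _ := by rw [h3, mul_one]
    rw [h2] at h1
    exact (mul_eq_right.1 h1.symm)
  have e4 : B * ((Matrix.SpecialLinearGroup.map Q.s B)⁻¹).transpose = 1 := by
    apply slM_inj
    rw [map_mul, e3, map_one]
  have e5 : B = (Matrix.SpecialLinearGroup.map Q.s B).transpose := by
    have h1 : ((Matrix.SpecialLinearGroup.map Q.s B)⁻¹).transpose *
        (Matrix.SpecialLinearGroup.map Q.s B).transpose = 1 := by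
      apply Subtype.ext
      change ((Matrix.SpecialLinearGroup.map Q.s B)⁻¹).1ᵀ * (Matrix.SpecialLinearGroup.map Q.s B).1ᵀ = 1
      rw [← Matrix.transpose_mul]
      have := congrArg Subtype.val (mul_inv_cancel (Matrix.SpecialLinearGroup.map Q.s B))
      change (Matrix.SpecialLinearGroup.map Q.s B).1 * ((Matrix.SpecialLinearGroup.map Q.s B)⁻¹).1 = 1 at this
      rw [this, Matrix.transpose_one]
    exact (mul_eq_one_iff_eq_inv.1 e4).trans (inv_eq_of_mul_eq_one_right h1)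
  obtain ⟨P, hP, hBP⟩ := PPt B.1 (congrArg Subtype.val e5) B.2
  set P' : Matrix.SpecialLinearGroup (Fin 3) Q.L := ⟨P, hP⟩ with hP'
  have e6 : B = P' * (Matrix.SpecialLinearGroup.map Q.s P').transpose := Subtype.ext hBP
  refine ⟨slM Q.L P'⁻¹ * h0, (AutO Q.L).mul_mem (slM_mem _) h0m, ?_, ?_⟩
  · rw [LinearEquiv.mul_apply, h0e, slM_e1]
  · have e7 : cj Q.ss h0 = swp Q.L * slM Q.L B⁻¹ * h0 := by
      conv_rhs => rw [e0]
      rw [map_inv]
      calc cj Q.ss h0 = swp Q.L * swp Q.L * cj Q.ss h0 := by rw [swp_swp, one_mul]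
        _ = _ := by group
    have e8 : (Matrix.SpecialLinearGroup.map Q.s P'⁻¹)⁻¹.transpose * B⁻¹ = P'⁻¹ := by
      rw [map_inv, inv_inv]
      conv_lhs => rw [e6]
      group
    rw [cj_mul, cj_slM, e7]
    calc slM Q.L (Matrix.SpecialLinearGroup.map Q.s P'⁻¹) * (swp Q.L * slM Q.L B⁻¹ * h0)
        = (slM Q.L (Matrix.SpecialLinearGroup.map Q.s P'⁻¹) * swp Q.L) * (slM Q.L B⁻¹ * h0) := by
          simp only [mul_assoc]
      _ = (swp Q.L * slM Q.L (Matrix.SpecialLinearGroup.map Q.s P'⁻¹)⁻¹.transpose) *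
          (slM Q.L B⁻¹ * h0) := by
          rw [slM_swp]
      _ = swp Q.L * (slM Q.L ((Matrix.SpecialLinearGroup.map Q.s P'⁻¹)⁻¹.transpose * B⁻¹) * h0) := by
          rw [map_mul]; simp only [mul_assoc]
      _ = _ := by rw [e8]

end Frame

end Cfsg.Agent.H876.G2U
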