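import Cfsg.Agent.H876.G2U.Frame

/-!
# The isomorphism with `SU₃` (helper876)
-/

set_option autoImplicit false

namespace Cfsg.Agent.H876.G2U

open Cfsg.Lie Cfsg.Agent.H161.Oct Cfsg.Agent.H566.G2
open scoped Matrix

variable {F : Type} [Field F] {e : V F} (Q : Quad F (tr e) (nm e)) {h : V Q.L ≃ₗ[Q.L] V Q.L}
  (hm : h ∈ AutO Q.L) (he : h (idm Q) = e1) (hc : cj Q.ss h = swp Q.L * h)

include hc in
theorem cj_conj (A : Matrix.SpecialLinearGroup (Fin 3) Q.L) :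
    cj Q.ss (h⁻¹ * slM Q.L A * h) =
      h⁻¹ * slM Q.L ((Matrix.SpecialLinearGroup.map Q.s A)⁻¹).transpose * h := by
  rw [cj_mul, cj_mul, cj_slM, cj_inv, hc, mul_inv_rev]
  have h1 : (swp Q.L)⁻¹ = swp Q.L := inv_eq_of_mul_eq_one_left swp_swp
  have h2 := swp_slM (Matrix.SpecialLinearGroup.map Q.s A)
  rw [h1]
  calc h⁻¹ * swp Q.L * slM Q.L (Matrix.SpecialLinearGroup.map Q.s A) * (swp Q.L * h)
      = h⁻¹ * (swp Q.L * slM Q.L (Matrix.SpecialLinearGroup.map Q.s A)) * swp Q.L * h := by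
        simp only [mul_assoc]
    _ = h⁻¹ * slM Q.L ((Matrix.SpecialLinearGroup.map Q.s A)⁻¹).transpose *
          (swp Q.L * swp Q.L) * h := by rw [h2]; simp only [mul_assoc]
    _ = _ := by rw [swp_swp, mul_one]

theorem uni_iff (A : Matrix.SpecialLinearGroup (Fin 3) Q.L) :
    A.1 * (A.1.map Q.s)ᵀ = 1 ↔ ((Matrix.SpecialLinearGroup.map Q.s A)⁻¹).transpose = A := by
  have h1 : ((Matrix.SpecialLinearGroup.map Q.s A)⁻¹).transpose *
      (Matrix.SpecialLinearGroup.map Q.s A).transpose = 1 := by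
    apply Subtype.ext
    change ((Matrix.SpecialLinearGroup.map Q.s A)⁻¹).1ᵀ * (Matrix.SpecialLinearGroup.map Q.s A).1ᵀ = 1
    rw [← Matrix.transpose_mul]
    have := congrArg Subtype.val (mul_inv_cancel (Matrix.SpecialLinearGroup.map Q.s A))
    change (Matrix.SpecialLinearGroup.map Q.s A).1 * ((Matrix.SpecialLinearGroup.map Q.s A)⁻¹).1 = 1
      at this
    rw [this, Matrix.transpose_one]
  have h2 : A.1 * (A.1.map Q.s)ᵀ = 1 ↔ A * (Matrix.SpecialLinearGroup.map Q.s A).transpose = 1 :=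
    ⟨fun h => Subtype.ext h, fun h => congrArg Subtype.val h⟩
  rw [h2]
  constructor
  · intro h3
    exact mul_right_cancel (h1.trans h3.symm)
  · intro h3
    rw [h3] at h1
    exact h1

include he in
theorem fix_conj {g : V Q.L ≃ₗ[Q.L] V Q.L} (hg : g e1 = e1) :
    (h⁻¹ * g * h) (idm Q) = idm Q := by
  rw [LinearEquiv.mul_apply, LinearEquiv.mul_apply, he, hg, ← he]
  exact LinearEquiv.symm_apply_apply _ _

include hm he hc in
theorem exists_m {A : Matrix.SpecialLinearGroup (Fin 3) Q.L} (hA : A.1 * (A.1.map Q.s)ᵀ = 1) :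
    ∃ m : AutO F, m ∈ MK e ∧ E Q.φ m = h⁻¹ * slM Q.L A * h := by
  have hg : h⁻¹ * slM Q.L A * h ∈ AutO Q.L :=
    (AutO Q.L).mul_mem ((AutO Q.L).mul_mem ((AutO Q.L).inv_mem hm) (slM_mem A)) hm
  obtain ⟨m, hmE⟩ := exists_E Q.ss (φ := Q.φ) Q.fix hg (by
    rw [cj_conj Q hc, (uni_iff Q A).1 hA])
  refine ⟨m, ?_, hmE⟩
  rw [mem_MK]
  apply up_inj Q.φ
  rw [← E_up, hmE]
  exact (fix_iff Q _ hg).1 (fix_conj Q he (slM_e1 A))

include hm he hc in
theorem exists_A {m : AutO F} (hme : m ∈ MK e) :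
    ∃ A : Matrix.SpecialLinearGroup (Fin 3) Q.L, A.1 * (A.1.map Q.s)ᵀ = 1 ∧
      E Q.φ m = h⁻¹ * slM Q.L A * h := by
  have h1 : E Q.φ m (idm Q) = idm Q := by
    rw [fix_iff Q _ (E_mem Q.φ m), E_up, mem_MK.1 hme]
  have h2 : (h * E Q.φ m * h⁻¹) e1 = e1 := by
    rw [LinearEquiv.mul_apply, LinearEquiv.mul_apply]
    have h3 : h⁻¹ e1 = idm Q := by
      rw [← he]
      exact LinearEquiv.symm_apply_apply _ _
    rw [h3, h1, he]
  obtain ⟨A, hA⟩ := exists_slM (g := h * E Q.φ m * h⁻¹)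
    ((AutO Q.L).mul_mem ((AutO Q.L).mul_mem hm (E_mem Q.φ m)) ((AutO Q.L).inv_mem hm)) h2
  have h4 : E Q.φ m = h⁻¹ * slM Q.L A * h := by
    rw [← hA]; group
  refine ⟨A, ?_, h4⟩
  rw [uni_iff]
  have h5 := cj_E Q.ss Q.s_φ m
  rw [h4, cj_conj Q hc] at h5
  apply slM_inj
  exact mul_left_cancel (mul_right_cancel h5)

include hm he hc in
theorem exists_iso (memSU : ∀ A : Matrix.SpecialLinearGroup (Fin 3) Q.L,
      A ∈ Cfsg.SU 3 Q.L (Nat.card F) ↔ A.1 * (A.1.map Q.s).transpose = 1) :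
    Nonempty (MK e ≃* Cfsg.SU 3 Q.L (Nat.card F)) := by
  set f1 : MK e →* (V Q.L ≃ₗ[Q.L] V Q.L) := (E Q.φ).comp (MK e).subtype with hf1
  set f2 : Cfsg.SU 3 Q.L (Nat.card F) →* (V Q.L ≃ₗ[Q.L] V Q.L) :=
    ((MulAut.conj h⁻¹).toMonoidHom.comp (slM Q.L)).comp (Cfsg.SU 3 Q.L (Nat.card F)).subtype with hf2
  have hf1i : Function.Injective f1 := (E_inj Q.φ).comp Subtype.val_injective
  have hf2i : Function.Injective f2 :=
    ((MulAut.conj h⁻¹).injective.comp slM_inj).comp Subtype.val_injective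
  have hf2a : ∀ A : Cfsg.SU 3 Q.L (Nat.card F), f2 A = h⁻¹ * slM Q.L A.1 * h := by
    intro A
    change (MulAut.conj h⁻¹) (slM Q.L A.1) = _
    rw [MulAut.conj_apply, inv_inv]
  have hr : f1.range = f2.range := by
    ext g
    constructor
    · rintro ⟨m, rfl⟩
      obtain ⟨A, hA, hA2⟩ := exists_A Q hm he hc m.2
      exact ⟨⟨A, (memSU A).2 hA⟩, (hf2a _).trans hA2.symm⟩
    · rintro ⟨A, rfl⟩
      obtain ⟨m, hm1, hm2⟩ := exists_m Q hm he hc ((memSU A.1).1 A.2)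
      exact ⟨⟨m, hm1⟩, hm2.trans (hf2a A).symm⟩
  exact ⟨((MonoidHom.ofInjective hf1i).trans (MulEquiv.subgroupCongr hr)).trans
    (MonoidHom.ofInjective hf2i).symm⟩

end Cfsg.Agent.H876.G2U
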