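import Cfsg.Agent.H876.G2U.Iso

/-!
# The centraliser and the stabiliser: the facts (helper876)
-/

set_option autoImplicit false

namespace Cfsg.Agent.H876.G2U

open Cfsg.Lie Cfsg.Agent.H161.Oct Cfsg.Agent.H566.G2
open scoped Matrix commutatorElement

/-- an element of norm one and order at least three -/
theorem exists_z {L : Type} [Field L] [Finite L] {q : ℕ} (hq : Nat.card L = q ^ 2) (hq3 : 3 ≤ q) :
    ∃ z : L, z ≠ 0 ∧ z * z ^ q = 1 ∧ z ^ 2 ≠ 1 := by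
  obtain ⟨g, hg⟩ := IsCyclic.exists_generator (α := Lˣ)
  have ho : orderOf g = q ^ 2 - 1 := by
    rw [orderOf_eq_card_of_forall_mem_zpowers hg, Nat.card_units, hq]
  have hq2 : (q - 1) * (q + 1) = q ^ 2 - 1 := by
    obtain ⟨r, rfl⟩ : ∃ r, q = r + 1 := ⟨q - 1, by omega⟩
    rw [Nat.add_sub_cancel]
    have : (r + 1) ^ 2 = r * (r + 1 + 1) + 1 := by ring
    omega
  have hz1 : (g ^ (q - 1)) ^ (q + 1) = 1 := by
    rw [← pow_mul, hq2, ← ho, pow_orderOf_eq_one]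
  have hz2 : (g ^ (q - 1)) ^ 2 ≠ 1 := by
    rw [← pow_mul]
    intro h
    have h1 := orderOf_dvd_of_pow_eq_one h
    rw [ho, ← hq2] at h1
    have h2 := Nat.dvd_of_mul_dvd_mul_left (by omega : 0 < q - 1) h1
    have := Nat.le_of_dvd (by norm_num) h2
    omega
  refine ⟨((g ^ (q - 1) : Lˣ) : L), Units.ne_zero _, ?_, ?_⟩
  · rw [← pow_succ', ← Units.val_pow_eq_pow_val, hz1, Units.val_one]
  · intro h
    apply hz2
    apply Units.ext
    rw [Units.val_pow_eq_pow_val, h, Units.val_one]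

theorem ne_top {F : Type} [Field F] {e : V F} (h : ∀ l : F, l ^ 2 - tr e * l + nm e ≠ 0) :
    MK e ≠ ⊤ := by
  intro ht
  have h1 : ∀ g ∈ AutO F, g e = e := by
    intro g hg
    have : (⟨g, hg⟩ : AutO F) ∈ MK e := by rw [ht]; exact Subgroup.mem_top _
    exact this
  have d1 : (!![1, 1, 0; 0, 1, 0; 0, 0, 1] : Matrix (Fin 3) (Fin 3) F).det = 1 := by
    rw [det3]; simp
  have d2 : (!![1, 0, 0; 0, 1, 1; 0, 0, 1] : Matrix (Fin 3) (Fin 3) F).det = 1 := by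
    rw [det3]; simp
  have d3 : (!![1, 0, 0; 0, 1, 0; 1, 0, 1] : Matrix (Fin 3) (Fin 3) F).det = 1 := by
    rw [det3]; simp
  have t1 := h1 _ (sl_mem _ d1)
  have t2 := h1 _ (sl_mem _ d2)
  have t3 := h1 _ (sl_mem _ d3)
  have t4 := h1 _ swp_mem
  rw [sl_apply] at t1 t2 t3
  rw [swp_apply] at t4
  have a2 : e 2 = 0 := by
    have := congrFun t1 1
    simpa [slF] using this
  have a3 : e 3 = 0 := by
    have := congrFun t2 2
    simpa [slF] using this
  have a1 : e 1 = 0 := by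
    have := congrFun t3 3
    simpa [slF] using this
  have a7 : e 7 = e 0 := congrFun t4 0
  apply h (e 0)
  rw [tr, nm, a1, a2, a3, a7]
  ring

theorem mfacts_of_quad {F : Type} [Field F] [Finite F] (hq : 3 ≤ Nat.card F) {e : V F}
    (h : ∀ l : F, l ^ 2 - tr e * l + nm e ≠ 0)
    (exists_PPt : ∀ {L : Type} [Field L] [Finite L] {q : ℕ} (hq : Nat.card L = q ^ 2) (hq1 : 1 < q)
      (s : L →+* L) (hs : ∀ x, s x = x ^ q) (B : Matrix (Fin 3) (Fin 3) L)
      (hB : B = (B.map s).transpose) (hd : B.det = 1),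
      ∃ P : Matrix (Fin 3) (Fin 3) L, P.det = 1 ∧ B = P * (P.map s).transpose)
    (mem_SU_iff : ∀ {L : Type} [Field L] [Finite L] {q : ℕ} (s : L →+* L) (hs : ∀ x, s x = x ^ q)
      (hss : ∀ x, s (s x) = x) (A : Matrix.SpecialLinearGroup (Fin 3) L),
      A ∈ Cfsg.SU 3 L q ↔ A.1 * (A.1.map s).transpose = 1)
    (su_facts : ∀ {L : Type} [Field L] [Finite L] {q : ℕ} (hq : Nat.card L = q ^ 2) (hq3 : 3 ≤ q)
      {G : Type} [Group G] (φ : G ≃* Cfsg.SU 3 L q), commutator G = ⊤ ∧ Nontrivial G ∧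
      ∃ (S' : Type) (_ : Group S') (_ : Finite S') (π : G →* S'), Function.Surjective π ∧
        π.ker ≤ Subgroup.center G ∧ IsSimpleGroup S' ∧ ¬ IsMulCommutative S' ∧
        Cfsg.Agent.H106.RC.Cl S' ∧ ¬ Cfsg.Agent.H106.RC.Exc S')
    (cen_sl : ∀ {L : Type} [Field L] {z : L} (hz : z ^ 2 ≠ 1) (hz0 : z ≠ 0) {D : V L ≃ₗ[L] V L}
      (hD : D ∈ AutO L) (A1 A2 A3 : Matrix.SpecialLinearGroup (Fin 3) L)
      (h1 : A1.1 = Matrix.diagonal ![z, z⁻¹, 1]) (h2 : A2.1 = Matrix.diagonal ![z, 1, z⁻¹])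
      (h3 : A3.1 = P3 L) (c1 : D * slM L A1 = slM L A1 * D) (c2 : D * slM L A2 = slM L A2 * D)
      (c3 : D * slM L A3 = slM L A3 * D), D e1 = e1 ∧ D ^ 3 = 1) : MFacts e := by
  obtain ⟨Q⟩ := exists_quad h
  obtain ⟨g, gm, ge, gc⟩ := exists_frame Q (fun B hB hd =>
    exists_PPt Q.card (by omega) Q.s Q.s_eq B hB hd)
  have memSU := mem_SU_iff Q.s Q.s_eq Q.ss
  obtain ⟨Φ⟩ := exists_iso Q gm ge gc memSU
  obtain ⟨f1, f2, f3⟩ := su_facts Q.card hq Φ
  refine ⟨?_, (Subgroup.nontrivial_iff_ne_bot _).1 f2, ne_top h, f3, ?_⟩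
  · rw [← Subgroup.map_subtype_commutator, f1, ← MonoidHom.range_eq_map, Subgroup.range_subtype]
  · intro c hc
    obtain ⟨z, hz0, hzq, hz2⟩ := exists_z Q.card hq
    have hcomm : ∀ A : Matrix.SpecialLinearGroup (Fin 3) Q.L, A.1 * (A.1.map Q.s)ᵀ = 1 →
        (g * E Q.φ c * g⁻¹) * slM Q.L A = slM Q.L A * (g * E Q.φ c * g⁻¹) := by
      intro A hA
      obtain ⟨m, hm1, hm2⟩ := exists_m Q gm ge gc hA
      have h1 := congrArg (E Q.φ) (hc m hm1)
      rw [map_mul, map_mul, hm2] at h1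
      calc (g * E Q.φ c * g⁻¹) * slM Q.L A
          = g * (E Q.φ c * (g⁻¹ * slM Q.L A * g)) * g⁻¹ := by group
        _ = g * ((g⁻¹ * slM Q.L A * g) * E Q.φ c) * g⁻¹ := by rw [h1]
        _ = _ := by group
    have hD : g * E Q.φ c * g⁻¹ ∈ AutO Q.L :=
      (AutO Q.L).mul_mem ((AutO Q.L).mul_mem gm (E_mem Q.φ c)) ((AutO Q.L).inv_mem gm)
    have hzs : z * Q.s z = 1 := by rw [Q.s_eq]; exact hzq
    have hzs' : z⁻¹ * Q.s z⁻¹ = 1 := by rw [map_inv₀, ← mul_inv, hzs, inv_one]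
    have dt1 : (Matrix.diagonal ![z, z⁻¹, 1]).det = 1 := by
      rw [Matrix.det_diagonal, Fin.prod_univ_three]
      simp [hz0]
    have dt2 : (Matrix.diagonal ![z, 1, z⁻¹]).det = 1 := by
      rw [Matrix.det_diagonal, Fin.prod_univ_three]
      simp [hz0]
    have u1 : (Matrix.diagonal ![z, z⁻¹, 1]) * ((Matrix.diagonal ![z, z⁻¹, 1]).map Q.s)ᵀ = 1 := by
      rw [Matrix.diagonal_map (map_zero _), Matrix.diagonal_transpose, Matrix.diagonal_mul_diagonal,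
        ← Matrix.diagonal_one]
      congr 1
      funext i
      fin_cases i
      · simpa using hzs
      · simpa using hzs'
      · simp
    have u2 : (Matrix.diagonal ![z, 1, z⁻¹]) * ((Matrix.diagonal ![z, 1, z⁻¹]).map Q.s)ᵀ = 1 := by
      rw [Matrix.diagonal_map (map_zero _), Matrix.diagonal_transpose, Matrix.diagonal_mul_diagonal,
        ← Matrix.diagonal_one]
      congr 1
      funext i
      fin_cases i
      · simpa using hzs
      · simp
      · simpa using hzs'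
    have u3 : P3 Q.L * ((P3 Q.L).map Q.s)ᵀ = 1 := by
      ext i j
      fin_cases i <;> fin_cases j <;> simp [P3, Matrix.mul_apply, Fin.sum_univ_three]
    obtain ⟨k1, k2⟩ := cen_sl hz2 hz0 hD ⟨_, dt1⟩ ⟨_, dt2⟩ ⟨_, det_P3⟩ rfl rfl rfl
      (hcomm _ u1) (hcomm _ u2) (hcomm _ u3)
    constructor
    · rw [mem_MK]
      apply up_inj Q.φ
      rw [← E_up, ← fix_iff Q _ (E_mem Q.φ c)]
      have h3 : g⁻¹ e1 = idm Q := by
        rw [← ge]
        exact LinearEquiv.symm_apply_apply _ _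
      have h4 : g (E Q.φ c (g⁻¹ e1)) = g (g⁻¹ e1) := by
        have h5 : g (g⁻¹ (e1 : V Q.L)) = e1 := LinearEquiv.apply_symm_apply _ _
        rw [h5]
        exact k1
      rw [h3] at h4
      exact g.injective h4
    · apply E_inj Q.φ
      rw [map_pow, map_one]
      have h6 : (g * E Q.φ c * g⁻¹) ^ 3 = g * (E Q.φ c) ^ 3 * g⁻¹ := conj_pow
      rw [h6] at k2
      calc E Q.φ c ^ 3 = g⁻¹ * (g * E Q.φ c ^ 3 * g⁻¹) * g := by group
        _ = 1 := by rw [k2]; group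

end Cfsg.Agent.H876.G2U
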